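import Mathlib
import Cfsg.Agent.Lib.Block.Dade
import Cfsg.Agent.Lib.Block.CanExt
import Cfsg.Agent.Lib.H85.Prin
import Cfsg.Agent.Lib.H85.PRegSep
import Cfsg.Agent.Lib.Char.Galois

/-!
Canonical extensions of invariant characters of `p'`-degree in the principal block of a normal
subgroup `N` when `N C_G(Q)` has `p`-power index.
-/

set_option autoImplicit false
set_option linter.style.haveILetI false

open Cfsg H34
open scoped ComplexConjugate

namespace H88

section Gal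

theorem mem_of_forall_ringEquiv (K : IntermediateField ℚ ℂ) {x : ℂ} (hx : IsIntegral ℚ x)
    (h : ∀ σ : ℂ ≃+* ℂ, (∀ y ∈ K, σ y = y) → σ x = x) : x ∈ K := by
  by_contra hq
  have hxK : IsIntegral K x := hx.tower_top
  have hsep : IsSeparable K x := (minpoly.irreducible hxK).separable
  have : x ∉ (⊥ : Subalgebra K ℂ) := by
    rw [Algebra.mem_bot]
    rintro ⟨q, hq'⟩
    exact hq (hq' ▸ q.2)
  obtain ⟨y, hy, hxy⟩ :=
    (notMem_iff_exists_ne_and_isConjRoot hsep (IsAlgClosed.splits _)).1 this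
  let L : IntermediateField K ℂ := algebraicClosure K ℂ
  have hyK : IsIntegral K y := hxy.isIntegral hxK
  let x' : L := ⟨x, mem_algebraicClosure_iff'.2 hxK⟩
  let y' : L := ⟨y, mem_algebraicClosure_iff'.2 hyK⟩
  have hc : IsConjRoot K y' x' := (isConjRoot_algHom_iff (x := y') (y := x') L.val).1 hxy.symm
  have : IsAlgClosure K L := algebraicClosure.isAlgClosure K ℂ
  obtain ⟨τ, hτ⟩ := hc.exists_algEquiv
  obtain ⟨σ, hσ⟩ := H8.exists_ringEquiv_extend (L.restrictScalars ℚ) τ.toRingEquiv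
  have h1 : σ x = y := (hσ x').trans (congrArg Subtype.val hτ)
  have h2 : ∀ z ∈ K, σ z = z := fun z hz =>
    (hσ (algebraMap K L ⟨z, hz⟩)).trans (congrArg Subtype.val (τ.commutes ⟨z, hz⟩))
  exact hy ((h σ h2).symm.trans h1)

theorem fix_adjoin (σ : ℂ ≃+* ℂ) {ζ : ℂ} (h : σ ζ = ζ) {x : ℂ}
    (hx : x ∈ IntermediateField.adjoin ℚ ({ζ} : Set ℂ)) : σ x = x := by
  induction hx using IntermediateField.adjoin_induction with
  | mem y hy => rw [Set.mem_singleton_iff.1 hy, h]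
  | algebraMap r => simp
  | add a b _ _ ha hb => rw [map_add, ha, hb]
  | inv a _ ha => rw [map_inv₀, ha]
  | mul a b _ _ ha hb => rw [map_mul, ha, hb]

theorem detHom_gal {G : Type*} [Group G] [Finite G] {χ : G → ℂ} (hχ : IsCharacter G χ)
    (σ : ℂ →+* ℂ) (g : G) :
    (H31.detHom (fun g => σ (χ g)) g : ℂ) = σ (H31.detHom χ g) := by
  obtain ⟨n, ρ, rfl⟩ := hχ
  have e : (fun g => σ (ρ.character g)) = (H8.mapRep ρ σ).character :=
    (funext fun g => H8.character_mapRep ρ σ g).symm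
  rw [e, H31.detHom_character, H31.detHom_character, H31.repDet_apply, H31.repDet_apply]
  change LinearMap.det (Matrix.toLin' ((LinearMap.toMatrix' (ρ g)).map σ)) = _
  rw [LinearMap.det_toLin', ← LinearMap.det_toMatrix', RingHom.map_det]
  rfl

theorem pd_gal {G : Type*} [Group G] [Finite G] {p : ℕ} {χ : G → ℂ} (hχ : IsCharacter G χ)
    (h : PD p χ) (σ : ℂ →+* ℂ) : PD p fun g => σ (χ g) := by
  refine fun e => h (e.trans ?_)
  rw [H31.orderOf_hom_dvd_iff]
  intro g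
  have h1 := (H31.orderOf_hom_dvd_iff (H31.detHom χ) _).1 dvd_rfl g
  apply Units.ext
  rw [Units.val_pow_eq_pow_val, detHom_gal hχ, ← map_pow, ← Units.val_pow_eq_pow_val, h1]
  simp

/-- a `p`-rational character has determinantal order prime to the odd prime `p` -/
theorem pd_of_rat {G : Type*} [Group G] [Finite G] {p : ℕ} [hp : Fact p.Prime] (hp2 : p ≠ 2)
    {χ : G → ℂ} (hχ : IsCharacter G χ) {m : ℕ} (hm : ¬ p ∣ m)
    (h : ∀ g, χ g ∈ IntermediateField.adjoin ℚ
      ({Complex.exp (2 * Real.pi * Complex.I / m)} : Set ℂ)) : PD p χ := by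
  intro hd
  have hm0 : m ≠ 0 := by rintro rfl; exact hm (dvd_zero p)
  have hcop : Nat.Coprime m p := ((Nat.Prime.coprime_iff_not_dvd hp.out).2 hm).symm
  obtain ⟨k, hk1, hk2⟩ := Nat.chineseRemainder hcop 1 2
  have hp2' : Nat.Coprime 2 p := (Nat.coprime_primes Nat.prime_two hp.out).2 hp2.symm
  have hkc : k.Coprime (m * p) := by
    refine Nat.Coprime.mul_right ?_ ?_
    · rw [Nat.Coprime, hk1.gcd_eq]; simp
    · rw [Nat.Coprime, hk2.gcd_eq]; exact hp2'
  obtain ⟨σ, hσ⟩ := H8.exists_ringEquiv_pow (Nat.mul_pos (Nat.pos_of_ne_zero hm0) hp.out.pos) hkc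
  have hζ := Complex.isPrimitiveRoot_exp m hm0
  have hfix : σ (Complex.exp (2 * Real.pi * Complex.I / m)) =
      Complex.exp (2 * Real.pi * Complex.I / m) := by
    rw [hσ _ (by rw [pow_mul, hζ.pow_eq_one, one_pow])]
    have := pow_eq_pow_of_modEq hk1 hζ.pow_eq_one
    rwa [pow_one] at this
  have hχσ : (fun g => (σ : ℂ →+* ℂ) (χ g)) = χ := funext fun g => fix_adjoin σ hfix (h g)
  obtain ⟨r, hr⟩ := hd
  have ho : orderOf (H31.detHom χ) ≠ 0 := fun h0 => by
    have := H31.orderOf_hom_dvd_card (H31.detHom χ)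
    rw [h0, zero_dvd_iff] at this
    exact Nat.card_pos.ne' this
  have hr0 : r ≠ 0 := by rintro rfl; exact ho (by rw [hr, mul_zero])
  have hall : ∀ g, H31.detHom χ g ^ r = 1 := by
    intro g
    have h1 := (H31.orderOf_hom_dvd_iff (H31.detHom χ) _).1 dvd_rfl g
    set w : ℂ := ((H31.detHom χ g ^ r : ℂˣ) : ℂ) with hw
    have hwp : w ^ p = 1 := by
      rw [hw, ← Units.val_pow_eq_pow_val, ← pow_mul, mul_comm, ← hr, h1, Units.val_one]
    have h2 : σ w = w := by
      have := detHom_gal hχ (σ : ℂ →+* ℂ) (g ^ r)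
      rw [hχσ, map_pow] at this
      exact this.symm
    rw [hσ w (by rw [mul_comm, pow_mul, hwp, one_pow]), pow_eq_pow_of_modEq hk2 hwp] at h2
    have hw0 : w ≠ 0 := Units.ne_zero _
    apply Units.ext
    exact mul_left_cancel₀ hw0 (by rw [← pow_two, h2]; simp)
  have h3 := (H31.orderOf_hom_dvd_iff (H31.detHom χ) r).2 hall
  rw [hr] at h3
  have := Nat.le_of_dvd (Nat.pos_of_ne_zero hr0) h3
  have := hp.out.one_lt
  nlinarith [Nat.pos_of_ne_zero hr0]

end Gal

theorem mem_of_pow_pow' {G : Type*} [Group G] {H : Subgroup G} {g : G} {a b : ℕ}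
    (hab : a.Coprime b) (ha : g ^ a ∈ H) (hb : g ^ b ∈ H) : g ∈ H := by
  have h := Nat.gcd_eq_gcd_ab a b
  rw [hab.gcd_eq_one] at h
  have e : g = (g ^ a) ^ a.gcdA b * (g ^ b) ^ a.gcdB b := by
    rw [← zpow_natCast, ← zpow_natCast, ← zpow_mul, ← zpow_mul, ← zpow_add, ← h]; simp
  rw [e]
  exact mul_mem (zpow_mem ha _) (zpow_mem hb _)

section Can

variable {G : Type*} [Group G] [Finite G] {p : ℕ} [hp : Fact p.Prime] {M : Ideal AlgInt}
  [M.IsMaximal] {N : Subgroup G} [hN : N.Normal] {Q : Sylow p N} {θ : IrrCharacter N}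

/-- conjugate into the centralizer of `Q` -/
def CU {G : Type*} [Group G] {p : ℕ} {N : Subgroup G} (Q : Sylow p N) (c : G) : Prop :=
  ∃ g : G, ∀ x ∈ (Q : Subgroup N), Commute (g * c * g⁻¹) (x : G)

structure CHyp (M : Ideal AlgInt) {G : Type*} [Group G] {p : ℕ} {N : Subgroup G} (Q : Sylow p N)
    (θ : IrrCharacter N) : Prop where
  hM : IsPModular p M
  mem : θ ∈ principalBlock M N
  inv : ∀ g : G, ∀ n ∈ N, extendByZero N θ (g * n * g⁻¹) = extendByZero N θ n
  deg : ¬ p ∣ charDegree (θ : N → ℂ)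
  pd : PD p (θ : N → ℂ)
  pw : ∃ a : ℕ, ∀ g : G, ∃ n ∈ N, ∃ c : G, (∀ x ∈ (Q : Subgroup N), Commute c (x : G)) ∧
    g ^ p ^ a = n * c

structure Can (M : Ideal AlgInt) [M.IsMaximal] {G : Type*} [Group G] {p : ℕ} {N : Subgroup G}
    (Q : Sylow p N) (θ : IrrCharacter N) (J : Subgroup G) (ξ : G → ℂ) : Prop where
  chr : CharOn J ξ
  ext : ∀ n ∈ N, ξ n = extendByZero N θ n
  pd : PD p fun x : J => ξ x
  unit : ∀ c ∈ J, CU Q c → H33.red M (ξ c) = charDegree (θ : N → ℂ)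

omit [Finite G] hp hN in
theorem CU.conj {c : G} (h : CU Q c) (a : G) : CU Q (a * c * a⁻¹) := by
  obtain ⟨g, hg⟩ := h
  refine ⟨g * a⁻¹, fun x hx => ?_⟩
  rw [show g * a⁻¹ * (a * c * a⁻¹) * (g * a⁻¹)⁻¹ = g * c * g⁻¹ by group]
  exact hg x hx

omit [Finite G] hp hN in
theorem CU.pow {c : G} (h : CU Q c) (k : ℕ) : CU Q (c ^ k) := by
  obtain ⟨g, hg⟩ := h
  exact ⟨g, fun x hx => by rw [← conj_pow]; exact (hg x hx).pow_left k⟩

omit hN in
theorem CU.not_dvd {c : G} (h : CU Q c) [hN : N.Normal] {J : Subgroup G} (hJ : N ≤ J)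
    (hi : ¬ p ∣ N.relIndex J) (hc : c ∈ J) :
    ¬ p ∣ (Subgroup.centralizer ({(⟨c, hc⟩ : J)} : Set J)).index := by
  obtain ⟨g, hg⟩ := h
  let Q0 : Subgroup G := (Q : Subgroup N).map N.subtype
  let Q1 : Subgroup G := Q0.comap (MulAut.conj g).toMonoidHom
  have hQ1 : Q1 ≤ N := by
    rintro y ⟨x, -, hx⟩
    have : y = g⁻¹ * x * g := by
      have hx' : (x : G) = g * y * g⁻¹ := hx
      rw [hx']; group
    rw [this]; exact hN.conj_mem' _ x.2 g
  have h1 : Q1.relIndex N = (Q : Subgroup N).index := by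
    rw [Subgroup.relIndex_comap]
    have : N.map (MulAut.conj g).toMonoidHom = N := by
      apply le_antisymm
      · rintro _ ⟨y, hy, rfl⟩; exact hN.conj_mem y hy g
      · intro y hy
        exact ⟨g⁻¹ * y * g, hN.conj_mem' y hy g, by simp [mul_assoc]⟩
    rw [this, Subgroup.relIndex, Subgroup.subgroupOf,
      Subgroup.comap_map_eq_self_of_injective N.subtype_injective]
  have hle : Q1.subgroupOf J ≤ Subgroup.centralizer ({(⟨c, hc⟩ : J)} : Set J) := by
    rintro y ⟨x, hx, hxy⟩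
    rw [Subgroup.mem_centralizer_singleton_iff]
    apply Subtype.ext
    have hx' : (x : G) = g * y * g⁻¹ := hxy
    have h2 := (hg x hx).eq
    rw [hx'] at h2
    show (y : G) * c = c * y
    calc (y : G) * c = g⁻¹ * (g * y * g⁻¹ * (g * c * g⁻¹)) * g := by group
      _ = c * y := by rw [← h2]; group
  intro hd
  have h3 := hd.trans (Subgroup.index_dvd_of_le hle)
  rw [← Subgroup.relIndex, ← Subgroup.relIndex_mul_relIndex Q1 N J hQ1 hJ, h1] at h3
  exact ((Nat.Prime.dvd_mul hp.out).1 h3).elim Q.not_dvd_index hi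

variable {J : Subgroup G} {ξ ξ' : G → ℂ}

omit hp hN in
theorem Can.mono (h : Can M Q θ J ξ) {K : Subgroup G} (hK : K ≤ J) : Can M Q θ K ξ :=
  ⟨charOn_of_hom h.chr K.subtype fun a => hK a.2, h.ext,
    h.pd.comp h.chr (Subgroup.inclusion hK), fun c hc => h.unit c (hK hc)⟩

omit hp in
theorem Can.conj (H : CHyp M Q θ) (h : Can M Q θ J ξ) (a : G) {K : Subgroup G}
    (hK : ∀ x ∈ K, a * x * a⁻¹ ∈ J) : Can M Q θ K fun x => ξ (a * x * a⁻¹) := by
  let f : K →* J := ((MulAut.conj a).toMonoidHom.comp K.subtype).codRestrict J fun x => hK x x.2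
  exact ⟨H6.isCharacter_comp f h.chr, fun n hn => (h.ext _ (hN.conj_mem n hn a)).trans (H.inv a n hn),
    h.pd.comp h.chr f, fun c hc hu => h.unit _ (hK c hc) (hu.conj a)⟩

omit hp hN in
theorem Can.gal (h : Can M Q θ J ξ) (σ : ℂ →+* ℂ) (hσ : ∀ n, σ ((θ : N → ℂ) n) = (θ : N → ℂ) n) :
    Can M Q θ J fun x => σ (ξ x) := by
  refine ⟨H8.isCharacter_ringHom_comp h.chr σ, fun n hn => ?_, pd_gal h.chr h.pd σ,
    fun c hc hu => ?_⟩
  · rw [h.ext n hn, H7.extendByZero_of_mem N _ hn, hσ]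
  · obtain ⟨k, -, hk⟩ := H8.exists_pow_map_character (G := J) σ
    have := hk _ (Or.inr h.chr) ⟨c, hc⟩
    simp only [SubmonoidClass.mk_pow] at this
    rw [this]
    exact h.unit _ (pow_mem hc k) (hu.pow k)

omit [Finite G] hp hN in
theorem Can.irrN (h : Can M Q θ J ξ) : IrrOn N ξ := (irrOn_ext θ.2).congr h.ext

omit hp hN in
theorem Can.one (h : Can M Q θ J ξ) : ξ 1 = charDegree (θ : N → ℂ) := by
  rw [h.ext 1 N.one_mem, H7.extendByZero_one, H84.cast_charDegree (H6.irr_isCharacter θ.2)]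

theorem Can.unique (H : CHyp M Q θ) (hJ : N ≤ J) (h : Can M Q θ J ξ) (h' : Can M Q θ J ξ')
    {x : G} (hx : x ∈ J) : ξ' x = ξ x := by
  obtain ⟨B, hB, hBe⟩ := H31.exists_hom_of_two_extensions (N.subgroupOf J)
    (h.irrN.subgroupOf hJ) h.chr h'.chr (fun _ => rfl)
    (fun n => (h'.ext _ n.2).trans (h.ext _ n.2).symm)
  have e : (fun x : J => ξ' x) = fun g => (B g : ℂ) * ξ g := funext hBe
  have h3 : orderOf B ∣ charDegree (θ : N → ℂ) *
      (orderOf (H31.detHom fun x : J => ξ x) * orderOf (H31.detHom fun x : J => ξ' x)) := by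
    rw [H31.orderOf_hom_dvd_iff]
    intro g
    have h4 := H31.detHom_hom_mul h.chr h.one B g
    rw [← e] at h4
    have h5 := (H31.orderOf_hom_dvd_iff (H31.detHom fun x : J => ξ x) _).1
      (dvd_mul_right _ (orderOf (H31.detHom fun x : J => ξ' x))) g
    have h6 := (H31.orderOf_hom_dvd_iff (H31.detHom fun x : J => ξ' x) _).1
      (dvd_mul_left _ (orderOf (H31.detHom fun x : J => ξ x))) g
    rw [h4, mul_pow, h5, mul_one, ← pow_mul] at h6
    exact h6
  have hB' : ¬ p ∣ orderOf B := fun e' =>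
    ((Nat.Prime.dvd_mul hp.out).1 (e'.trans h3)).elim H.deg fun e' =>
      ((Nat.Prime.dvd_mul hp.out).1 e').elim h.pd h'.pd
  have hpw : ∀ g, B g ^ orderOf B = 1 := (H31.orderOf_hom_dvd_iff B _).1 dvd_rfl
  obtain ⟨a, ha⟩ := H.pw
  obtain ⟨n, hn, c, hc, hxc⟩ := ha x
  have hcJ : c ∈ J := by
    have : c = n⁻¹ * x ^ p ^ a := by rw [hxc]; group
    rw [this]; exact mul_mem (inv_mem (hJ hn)) (pow_mem hx _)
  have hu : CU Q c := ⟨1, fun y hy => by simpa using hc y hy⟩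
  have hBc : B ⟨c, hcJ⟩ = 1 := by
    have h1 := h'.unit c hcJ hu
    have hpw' : (B ⟨c, hcJ⟩ : ℂ) ^ orderOf B = 1 := by
      rw [← Units.val_pow_eq_pow_val, hpw, Units.val_one]
    have ho : orderOf B ≠ 0 := by intro h0; rw [h0] at hB'; exact hB' (dvd_zero p)
    rw [hBe ⟨c, hcJ⟩, H33.red_mul (H33.mem_O_of_pow_eq_one M ho hpw')
      (H85.char_mem_O h.chr ⟨c, hcJ⟩), h.unit c hcJ hu] at h1
    have h2 : (charDegree (θ : N → ℂ) : H33.F M) ≠ 0 := by
      rw [← H33.red_natCast]; exact H33.red_natCast_ne_zero H.hM H.deg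
    apply Units.ext
    exact H33.eq_one_of_red_eq_one H.hM hB' hpw' (mul_right_cancel₀ h2 (by rw [h1, one_mul]))
  have h7 : B ⟨x, hx⟩ ^ p ^ a = 1 := by
    rw [← map_pow, show (⟨x, hx⟩ : J) ^ p ^ a = ⟨n, hJ hn⟩ * ⟨c, hcJ⟩ from Subtype.ext hxc, map_mul,
      hBc, hB ⟨n, hJ hn⟩ hn, one_mul]
  have h8 : B ⟨x, hx⟩ = 1 := by
    rw [← orderOf_eq_one_iff]
    exact Nat.eq_one_of_dvd_coprimes
      (Nat.Coprime.pow_left a ((Nat.Prime.coprime_iff_not_dvd hp.out).2 hB'))
      (orderOf_dvd_of_pow_eq_one h7) (orderOf_dvd_of_pow_eq_one (hpw _))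
  have := hBe ⟨x, hx⟩
  rwa [h8, Units.val_one, one_mul] at this

theorem CHyp.exists_reg (H : CHyp M Q θ) (hJ : N ≤ J) (hi : ¬ p ∣ N.relIndex J) :
    ∃ ξ, Can M Q θ J ξ := by
  have hr : (Subgroup.inclusion hJ).range = N.subgroupOf J := Subgroup.inclusion_range hJ
  have hO : Ov p Q (Subgroup.inclusion hJ) := by
    refine ⟨Subgroup.inclusion_injective hJ, by rw [hr]; infer_instance, by rw [hr]; exact hi,
      fun g => ?_⟩
    obtain ⟨a, ha⟩ := H.pw
    have hcop : Nat.Coprime (p ^ a) (N.relIndex J) :=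
      Nat.Coprime.pow_left a ((Nat.Prime.coprime_iff_not_dvd hp.out).2 hi)
    let C : Subgroup G := Subgroup.centralizer (((Q : Subgroup N).map N.subtype : Subgroup G) : Set G)
    have hg : (g : G) ∈ N ⊔ C := by
      refine mem_of_pow_pow' hcop ?_ (Subgroup.mem_sup_left ?_)
      · obtain ⟨n, hn, c, hc, e⟩ := ha g
        rw [e]
        refine mul_mem (Subgroup.mem_sup_left hn) (Subgroup.mem_sup_right ?_)
        rintro _ ⟨y, hy, rfl⟩
        exact (hc y hy).eq.symm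
      · exact (N.subgroupOf J).pow_index_mem g
    rw [← SetLike.mem_coe, Subgroup.normal_mul] at hg
    obtain ⟨n, hn, c, hc, e⟩ := hg
    have hcJ : c ∈ J := by
      have : c = n⁻¹ * g := by rw [← e]; group
      rw [this]; exact mul_mem (inv_mem (hJ hn)) g.2
    exact ⟨⟨n, hn⟩, ⟨c, hcJ⟩, fun x hx => Subtype.ext (hc _ ⟨x, hx, rfl⟩).symm,
      Subtype.ext e.symm⟩
  obtain ⟨χ, ⟨hχ, he⟩, -⟩ := hO.exists_ext H.hM H.mem
  have e0 : (fun m : J => extendByZero J (χ : J → ℂ) m) = χ := funext (H7.extendByZero_coe J _)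
  have hc := H6.irr_isCharacter χ.2
  have h1 : (χ : J → ℂ) 1 = charDegree (θ : N → ℂ) := by
    rw [H84.cast_charDegree (H6.irr_isCharacter θ.2), ← he 1, map_one]
  refine ⟨extendByZero J χ, by rw [CharOn, e0]; exact hc, fun n hn => ?_, ?_, fun c hcJ hu => ?_⟩
  · rw [H7.extendByZero_of_mem J _ (hJ hn), H7.extendByZero_of_mem N _ hn]
    exact he ⟨n, hn⟩
  · rw [e0]
    intro hd
    have h2 : orderOf (H31.detHom (χ : J → ℂ)) ∣
        N.relIndex J * orderOf (H31.detHom (θ : N → ℂ)) := by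
      rw [H31.orderOf_hom_dvd_iff]
      intro g
      have h3 : (g : G) ^ N.relIndex J ∈ N := (N.subgroupOf J).pow_index_mem g
      have h4 : H31.detHom (θ : N → ℂ) = (H31.detHom (χ : J → ℂ)).comp (Subgroup.inclusion hJ) := by
        rw [← H31.detHom_comp _ hc, funext he]
      rw [pow_mul, ← map_pow, show g ^ N.relIndex J = Subgroup.inclusion hJ ⟨_, h3⟩ from rfl,
        ← MonoidHom.comp_apply, ← h4]
      exact (H31.orderOf_hom_dvd_iff _ _).1 dvd_rfl _
    exact ((Nat.Prime.dvd_mul hp.out).1 (hd.trans h2)).elim hi H.pd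
  · rw [H7.extendByZero_of_mem J _ hcJ]
    have h2 := red_div_principal H.hM hχ (hu.not_dvd hJ hi hcJ)
    have h3 := H33.red_natCast_ne_zero H.hM H.deg
    rw [h1, H33.red_div (H85.char_mem_O hc _) h3, div_eq_one_iff_eq h3, H33.red_natCast] at h2
    exact h2

theorem CHyp.exists_step (H : CHyp M Q θ) {K : Subgroup G} (hK : N ≤ K) (hi : ¬ p ∣ N.relIndex K)
    (hKJ : K ≤ J) (hn : ∀ a ∈ J, ∀ x ∈ K, a * x * a⁻¹ ∈ K) (hrel : H76.RelP p K J) :
    ∃ ξ, Can M Q θ J ξ := by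
  obtain ⟨η, hη⟩ := H.exists_reg hK hi
  haveI : (K.subgroupOf J).Normal := ⟨fun x hx a => hn a a.2 x hx⟩
  have rel' : H76.RelP p (K.subgroupOf J) ⊤ := fun x _ => hrel x x.2
  obtain ⟨k, hk⟩ := index_pow_of_relP rel'
  have hirr : IrrOn K η :=
    H31.isIrr_of_comp_isIrr (Subgroup.inclusion hK) hη.chr hη.irrN
  have hirr' := hirr.subgroupOf hKJ
  have hpd' : PD p fun x : K.subgroupOf J => η x :=
    hη.pd.comp hη.chr (Subgroup.subgroupOfEquivOfLe hKJ).toMonoidHom
  obtain ⟨χ, ⟨hχ, hext, hdet⟩, -⟩ := H31.exists_canonical_ext (K.subgroupOf J) hirr'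
    (fun g n => hη.unique H hK (hη.conj H g (hn g g.2)) n.2) hη.one (by
      rw [hk]
      refine Nat.Coprime.pow_left k ((Nat.Prime.coprime_iff_not_dvd hp.out).2 fun e => ?_)
      exact ((Nat.Prime.dvd_mul hp.out).1 e).elim
        (fun e => hpd' (by rwa [H31.detOrder_eq] at e)) H.deg)
  have hc := H6.irr_isCharacter hχ
  have e0 : (fun m : J => extendByZero J χ m) = χ := funext (H7.extendByZero_coe J χ)
  have e1 : ∀ n ∈ K, extendByZero J χ n = η n := fun n hn => by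
    rw [H7.extendByZero_of_mem J χ (hKJ hn)]; exact hext ⟨⟨n, hKJ hn⟩, hn⟩
  refine ⟨extendByZero J χ, by rw [CharOn, e0]; exact hc,
    fun n hn => (e1 n (hK hn)).trans (hη.ext n hn), ?_, fun c hcJ hu => ?_⟩
  · rw [e0, PD, ← H31.detOrder_eq, hdet, H31.detOrder_eq]
    exact hpd'
  · rw [H7.extendByZero_of_mem J χ hcJ, H85.red_char_pReg H.hM hc]
    obtain ⟨m, hm⟩ := H35.exists_pow_eq_pReg p (⟨c, hcJ⟩ : J)
    have h1 := H35.not_dvd_orderOf_pReg p (⟨c, hcJ⟩ : J)
    rw [← hm] at h1 ⊢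
    have hmK : c ^ m ∈ K := by
      obtain ⟨j, hj⟩ := hrel _ (pow_mem hcJ m)
      refine mem_of_pow_pow'
        (Nat.Coprime.pow_left j ((Nat.Prime.coprime_iff_not_dvd hp.out).2 h1)) hj ?_
      have := congrArg Subtype.val (pow_orderOf_eq_one ((⟨c, hcJ⟩ : J) ^ m))
      simp only [SubmonoidClass.coe_pow, OneMemClass.coe_one] at this
      rw [this]; exact K.one_mem
    rw [← H7.extendByZero_coe J χ]
    simp only [SubmonoidClass.coe_pow]
    rw [e1 _ hmK]
    exact hη.unit _ hmK (hu.pow m)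

theorem CHyp.exists_nil (H : CHyp M Q θ) (E : Subgroup G) [Group.IsNilpotent E] :
    ∃ ξ, Can M Q θ (N ⊔ E) ξ := by
  let E' : Subgroup G := (pPrimeCore p E).map E.subtype
  haveI : (pPrimeCore p E).Normal := inferInstance
  refine H.exists_step (K := N ⊔ E') le_sup_left ?_
    (sup_le_sup_left (Subgroup.map_subtype_le _) N) ?_ ?_
  · rw [Subgroup.relIndex_sup_left]
    intro hd
    have h1 := hd.trans (Subgroup.relIndex_dvd_card N E')
    rw [Subgroup.card_map_of_injective E.subtype_injective] at h1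
    exact H1.not_dvd_card_pPrimeCore h1
  · intro a ha x hx
    rw [← SetLike.mem_coe, Subgroup.normal_mul] at ha hx
    obtain ⟨n, hn, e, he, rfl⟩ := ha
    obtain ⟨m, hm, _, ⟨y, hy, rfl⟩, rfl⟩ := hx
    have h1 : e * y * e⁻¹ ∈ E' :=
      ⟨_, Subgroup.Normal.conj_mem inferInstance y hy ⟨e, he⟩, rfl⟩
    show n * e * (m * (y : G)) * (n * e)⁻¹ ∈ N ⊔ E'
    rw [show n * e * (m * (y : G)) * (n * e)⁻¹ = n * (e * m * e⁻¹) * (e * y * e⁻¹) * n⁻¹ by group]
    exact mul_mem (mul_mem (mul_mem (Subgroup.mem_sup_left hn)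
      (Subgroup.mem_sup_left (hN.conj_mem m hm e))) (Subgroup.mem_sup_right h1))
      (Subgroup.mem_sup_left (inv_mem hn))
  · intro a ha
    rw [← SetLike.mem_coe, Subgroup.normal_mul] at ha
    obtain ⟨n, hn, e, he, rfl⟩ := ha
    obtain ⟨j, hj⟩ := H35.isPElt_pPart p (⟨e, he⟩ : E)
    refine ⟨j, ?_⟩
    have h1 : (⟨e, he⟩ : E) ^ p ^ j ∈ pPrimeCore p E := by
      rw [← H35.pPart_mul_pReg p (⟨e, he⟩ : E), (H35.commute_pPart_pReg p _).mul_pow, ← hj,
        pow_orderOf_eq_one, one_mul]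
      exact pow_mem (H84.pReg_mem_pPrimeCore p _) _
    have h2 : e ^ p ^ j ∈ E' := ⟨_, h1, rfl⟩
    have h3 : (n * e) ^ p ^ j * (e ^ p ^ j)⁻¹ ∈ N := by
      rw [← QuotientGroup.eq_one_iff]
      have : ((n : G) : G ⧸ N) = 1 := (QuotientGroup.eq_one_iff _).2 hn
      simp [this]
    show (n * e) ^ p ^ j ∈ N ⊔ E'
    rw [show (n * e) ^ p ^ j = (n * e) ^ p ^ j * (e ^ p ^ j)⁻¹ * e ^ p ^ j by group]
    exact mul_mem (Subgroup.mem_sup_left h3) (Subgroup.mem_sup_right h2)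

theorem CHyp.exists_ext (H : CHyp M Q θ) : ∃ χ : IrrCharacter G, χ ∈ principalBlock M G ∧
    (∀ n : N, (χ : G → ℂ) n = (θ : N → ℂ) n) ∧
    ∀ σ : ℂ →+* ℂ, (∀ n, σ ((θ : N → ℂ) n) = (θ : N → ℂ) n) →
      ∀ g, σ ((χ : G → ℂ) g) = (χ : G → ℂ) g := by
  classical
  haveI := Fintype.ofFinite G
  haveI := Fintype.ofFinite N
  have hnil : ∀ g : G, Group.IsNilpotent (Subgroup.zpowers g) := fun g =>
    letI : CommGroup (Subgroup.zpowers g) := IsCyclic.commGroup
    CommGroup.isNilpotent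
  choose ξ hξ using fun g : G => H.exists_nil (Subgroup.zpowers g)
  have hmem : ∀ g : G, g ∈ N ⊔ Subgroup.zpowers g := fun g =>
    Subgroup.mem_sup_right (Subgroup.mem_zpowers g)
  let t : G → ℂ := fun g => ξ g g
  have key : ∀ (J : Subgroup G) (η : G → ℂ), N ≤ J → Can M Q θ J η → ∀ g ∈ J, t g = η g := by
    intro J η hJ hη g hg
    exact (hη.mono (sup_le hJ ((Subgroup.zpowers_le).2 hg))).unique H le_sup_left (hξ g) (hmem g)
  have hext : ∀ n : N, t n = (θ : N → ℂ) n := fun n =>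
    ((hξ n).ext n n.2).trans (H7.extendByZero_coe N _ n)
  have hcl : IsClassFunction G t := by
    intro g a
    have h1 := (hξ (a * g * a⁻¹)).conj H a (K := N ⊔ Subgroup.zpowers g) (by
      intro x hx
      rw [← SetLike.mem_coe, Subgroup.normal_mul] at hx
      obtain ⟨n, hn, _, ⟨k, rfl⟩, rfl⟩ := hx
      show a * (n * g ^ k) * a⁻¹ ∈ _
      rw [show a * (n * g ^ k) * a⁻¹ = a * n * a⁻¹ * (a * g ^ k * a⁻¹) by group, ← conj_zpow]
      exact mul_mem (Subgroup.mem_sup_left (hN.conj_mem n hn a)) (zpow_mem (hmem _) k))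
    exact (key _ _ le_sup_left h1 g (hmem g)).symm
  have hgen : IsGeneralizedCharacter G t := by
    refine H84.isGen_of_nilpotent hcl fun E hE => ?_
    obtain ⟨η, hη⟩ := H.exists_nil E
    have := H6.char_isGen (hη.mono le_sup_right).chr
    convert this using 2 with e
    exact key _ _ le_sup_left hη e (Subgroup.mem_sup_right e.2)
  have hnorm : classInner t t = 1 := by
    haveI := Fintype.ofFinite (G ⧸ N)
    have h1 := H6.card_mul_classInner t t
    rw [H7.sum_eq_sum_quotient N] at h1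
    have h2 : ∀ q : G ⧸ N, ∑ r : N, t (q.out * r) * conj (t (q.out * r)) = Nat.card N := by
      intro q
      have hle : N ≤ N ⊔ Subgroup.zpowers q.out := le_sup_left
      have h3 := sum_coset_of_res_irr (hξ q.out).chr (Subgroup.inclusion hle)
        (Subgroup.inclusion_injective hle)
        (by rw [Subgroup.inclusion_range]; infer_instance) (hξ q.out).irrN ⟨_, hmem q.out⟩
      rw [← h3]
      refine Finset.sum_congr rfl fun n _ => ?_
      rw [key _ _ hle (hξ q.out) (q.out * n) (mul_mem (hmem _) (hle n.2))]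
      rfl
    simp only [h2, Finset.sum_const, Finset.card_univ, nsmul_eq_mul] at h1
    rw [← Nat.card_eq_fintype_card, ← Subgroup.index_eq_card, ← H7.card_eq_index_mul] at h1
    exact mul_left_cancel₀ H6.card_ne_zero (h1.trans (mul_one _).symm)
  have h1 : t 1 = charDegree (θ : N → ℂ) := (hξ 1).one
  have hirr := H6.isIrr_of_gen_of_inner_self hgen hnorm (by rw [h1]; simp)
  refine ⟨⟨t, hirr⟩, ?_, hext, fun σ hσ g => ?_⟩
  · rw [H33.mem_principalBlock_iff]
    intro g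
    have h3 := H33.red_natCast_ne_zero H.hM H.deg
    have hO := H85.char_mem_O (M := M) (H6.irr_isCharacter hirr) g
    show H33.red M (centralChar t g) = _
    rw [centralChar, h1, H33.red_div ((H33.O M).mul_mem (natCast_mem _ _) hO) h3,
      H33.red_mul (natCast_mem _ _) hO, H33.red_natCast, H33.red_natCast]
    by_cases hg : p ∣ (Subgroup.centralizer ({g} : Set G)).index
    · rw [(H33.natCast_F_eq_zero_iff H.hM _).2 hg, zero_mul, zero_div]
    · obtain ⟨P, hP⟩ := (Q.isPGroup'.map N.subtype).exists_le_sylow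
      obtain ⟨k, hk⟩ := H85.exists_conj_mem_centralizer_sylow P hg
      have hu : CU Q g := ⟨k, fun x hx => (hk _ (hP ⟨x, hx, rfl⟩)).symm⟩
      rw [show t g = ξ g g from rfl, (hξ g).unit g (hmem g) hu, mul_div_assoc,
        div_self (by rwa [H33.red_natCast] at h3), mul_one]
  · exact (key _ _ le_sup_left ((hξ g).gal σ hσ) g (hmem g)).symm

end Can

end H88
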