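import Mathlib
import Cfsg.Agent.Lib.H85.Prin2
import Cfsg.Agent.Lib.H85.Prin3
import Cfsg.Agent.Lib.H85.CharAux
import Cfsg.Agent.Lib.Block.Apps
import Cfsg.Agent.Lib.Block.Kernel
import Cfsg.Agent.Lib.Char.More
import Cfsg.Agent.Lib.Core.Frattini
import Cfsg.Agent.Lib.Transfer.Tate

/-!
Tate's theorem in terms of linear characters of a Sylow subgroup, and the characters of degree
prime to `p` in the principal block.
-/

set_option autoImplicit false
set_option linter.style.haveILetI false
set_option linter.unusedSectionVars false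

namespace H88

open Cfsg

variable {G : Type*} [Group G] [Finite G]

theorem mem_commutator_of_forall_hom {x : G} (h : ∀ lam : G →* ℂˣ, lam x = 1) :
    x ∈ commutator G := by
  by_contra hx
  have h1 : Abelianization.of x ≠ 1 := by
    intro h1
    apply hx
    rw [← Abelianization.ker_of]
    exact h1
  haveI : Finite (Abelianization G) := inferInstanceAs (Finite (G ⧸ commutator G))
  obtain ⟨φ, hφ⟩ := CommGroup.exists_apply_ne_one_of_hasEnoughRootsOfUnity (Abelianization G) ℂ h1
  exact hφ (h (φ.comp Abelianization.of))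

variable {p : ℕ} [hp : Fact p.Prime]

/-- Tate's theorem: a normal subgroup whose intersection with `P` lies in the kernel of every
linear character of `P` has a normal `p`-complement. -/
theorem tate_of_hom (P : Sylow p G) (N : Subgroup G) [N.Normal]
    (h : ∀ x : (P : Subgroup G), (x : G) ∈ N → ∀ lam : (P : Subgroup G) →* ℂˣ, lam x = 1) :
    HasNormalPComplement p N := by
  apply H4.tate P N
  rintro x ⟨hxN, hxP⟩
  refine ⟨⟨x, hxP⟩, ?_, rfl⟩
  exact H1.commutator_le_frattini P.isPGroup' (mem_commutator_of_forall_hom (h ⟨x, hxP⟩ hxN))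

variable {M : Ideal AlgInt}

theorem not_dvd_of_height_zero_prin {χ : IrrCharacter G}
    (h : blockHeight p (principalBlock M G) (χ : G → ℂ) = 0) [M.IsMaximal] :
    ¬ p ∣ charDegree (χ : G → ℂ) := by
  have h0 : sInf ((fun ψ : IrrCharacter G => (charDegree (ψ : G → ℂ)).factorization p) ''
      principalBlock M G) = 0 := by
    apply Nat.eq_zero_of_le_zero
    apply Nat.sInf_le
    refine ⟨H33.oneIrr G, H33.oneIrr_mem_principalBlock, ?_⟩
    show (charDegree (H33.oneIrr G : G → ℂ)).factorization p = 0
    rw [H33.charDegree_oneIrr]; simp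
  unfold blockHeight at h
  rw [h0, Nat.sub_zero] at h
  intro hd
  have := hp.out.factorization_pos_of_dvd (H85.charDegree_irr_pos χ.2).ne' hd
  omega

/-- Over every linear character of a Sylow subgroup lies a character of degree prime to `p` of the
principal block. -/
theorem exists_prin_over_hom (hM : IsPModular p M) (P : Sylow p G)
    (lam : (P : Subgroup G) →* ℂˣ) :
    ∃ χ : IrrCharacter G, χ ∈ principalBlock M G ∧ ¬ p ∣ charDegree (χ : G → ℂ) ∧
      ∀ x : (P : Subgroup G), (χ : G → ℂ) x = (χ : G → ℂ) 1 → lam x = 1 := by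
  haveI := hM.2.1
  haveI := Fintype.ofFinite G
  haveI := Fintype.ofFinite (P : Subgroup G)
  have hη : H6.irrOfHom lam ∈ principalBlock M (P : Subgroup G) := by
    rw [H33.block_eq_univ_of_isPGroup hM P.isPGroup' H33.isPBlock_principalBlock]
    trivial
  have hdeg : ¬ p ∣ charDegree (H6.irrOfHom lam : ↥(P : Subgroup G) → ℂ) := by
    rw [H85.charDegree_eq_of_one (n := 1) (by simp [H6.irrOfHom_apply])]
    simpa using hp.out.ne_one
  obtain ⟨χ, hχ, hd, m, hm, hin⟩ := H85.exists_prin_over hM P le_rfl hη hdeg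
  refine ⟨χ, hχ, hd, fun x hx => ?_⟩
  have hne : classInner (fun h : (P : Subgroup G) => (χ : G → ℂ) h)
      (H6.irrOfHom lam : ↥(P : Subgroup G) → ℂ) ≠ 0 := by
    rw [hin]
    intro h0
    apply hm
    have : m = 0 := by exact_mod_cast h0
    simp [this]
  have := H6.irr_apply_eq_of_char_apply_eq
    (H6.isCharacter_restrict (P : Subgroup G) (H6.irr_isCharacter χ.2)) (H6.irrOfHom lam).2 hne
    (x := x) (by simpa using hx)
  simp only [H6.irrOfHom_apply, map_one, Units.val_one] at this
  exact Units.ext this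

/-- A normal subgroup whose intersection with `P` lies in the kernel of all the characters of
degree prime to `p` of the principal block has a normal `p`-complement. -/
theorem npc_of_prin_ker (hM : IsPModular p M) (P : Sylow p G) (N : Subgroup G) [N.Normal]
    (h : ∀ χ : IrrCharacter G, χ ∈ principalBlock M G → ¬ p ∣ charDegree (χ : G → ℂ) →
      ∀ x ∈ N, x ∈ (P : Subgroup G) → (χ : G → ℂ) x = (χ : G → ℂ) 1) :
    HasNormalPComplement p N := by
  refine tate_of_hom P N fun x hx lam => ?_
  obtain ⟨χ, hχ, hd, hl⟩ := exists_prin_over_hom hM P lam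
  exact hl x (h χ hχ hd x hx x.2)

theorem charDegree_dvd_card (χ : IrrCharacter G) : charDegree (χ : G → ℂ) ∣ Nat.card G := by
  obtain ⟨n, -, h1, h2⟩ := H6.irr_one_dvd_card χ.2
  rwa [H85.charDegree_eq_of_one h1]

theorem charDegree_dvd_index {N : Subgroup G} [N.Normal] {χ : IrrCharacter G}
    (h : ∀ n ∈ N, (χ : G → ℂ) n = (χ : G → ℂ) 1) : charDegree (χ : G → ℂ) ∣ N.index := by
  obtain ⟨ψ, rfl⟩ := H35.exists_infl h
  rw [H35.charDegree_infl]
  exact charDegree_dvd_card ψ

end H88
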